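import Groth.Prelude.Def_FlatCA
import Mathlib.RingTheory.LocalRing.ResidueField.Fiber
import Mathlib.RingTheory.Flat.Basic
import Mathlib.LinearAlgebra.TensorProduct.Quotient
import Mathlib.Algebra.Module.LocalizedModule.Basic

/-! The fibre module over a prime is the localization of `N / pN` at the image of `R ∖ p`. -/

set_option autoImplicit false
universe u

namespace Groth.Agent.FlatCAFib

open TensorProduct

variable {R : Type u} [CommRing R] (p : Ideal R) [p.IsPrime] {S : Type u} [CommRing S] [Algebra R S]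
  (N : Type u) [AddCommGroup N] [Module S N] [Module R N] [IsScalarTower R S N]

attribute [local instance] Algebra.TensorProduct.rightAlgebra

local notation "pS" => Ideal.map (algebraMap R S) p

omit [p.IsPrime] in
theorem smul_mk_eq_zero {a : S} (ha : a ∈ pS) (n : N ⧸ (pS • ⊤ : Submodule S N)) : a • n = 0 := by
  obtain ⟨n, rfl⟩ := Submodule.Quotient.mk_surjective _ n
  rw [← Submodule.Quotient.mk_smul, Submodule.Quotient.mk_eq_zero]
  exact Submodule.smul_mem_smul ha Submodule.mem_top

theorem smul_one_eq_zero {a : S} (ha : a ∈ pS) : a • (1 : p.Fiber S) = 0 := by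
  have h : pS ≤ RingHom.ker (Algebra.TensorProduct.includeRight (R := R) (A := p.ResidueField) (B := S)).toRingHom := by
    refine Ideal.map_le_iff_le_comap.2 fun r hr => ?_
    show (1 : p.ResidueField) ⊗ₜ[R] algebraMap R S r = 0
    rw [Algebra.algebraMap_eq_smul_one, tmul_smul, smul_tmul', ← Algebra.algebraMap_eq_smul_one,
      Ideal.algebraMap_residueField_eq_zero.2 hr, zero_tmul]
  rw [Algebra.smul_def, mul_one]
  exact RingHom.mem_ker.1 (h ha)

/-- The map `N/pN → κ(p) ⊗ N`. -/
noncomputable def jmap : (N ⧸ (pS • ⊤ : Submodule S N)) →ₗ[S] FlatCA.fiberMod p S N :=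
  Submodule.liftQ _ (FlatCA.toFiberMod p S N) (Submodule.smul_le.2 fun a ha n _ => by
    rw [LinearMap.mem_ker, map_smul]
    show a • ((1 : p.Fiber S) ⊗ₜ[S] n) = 0
    rw [smul_tmul', smul_one_eq_zero p ha, zero_tmul])

theorem jmap_mk (n : N) : jmap p N (Submodule.Quotient.mk n) = ((1 : p.Fiber S) ⊗ₜ[S] n : (p.Fiber S) ⊗[S] N) := rfl

theorem exists_smul_eq (x : FlatCA.fiberMod p S N) :
    ∃ r ∉ p, ∃ n, algebraMap R S r • x = jmap p N n := by
  have key : ∀ y : (p.Fiber S) ⊗[S] N, ∃ r ∉ p, ∃ n : N, algebraMap R S r • y = (1 : p.Fiber S) ⊗ₜ[S] n := by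
    intro y
    induction y using TensorProduct.induction_on with
    | zero => exact ⟨1, (Ideal.ne_top_iff_one p).1 (Ideal.IsPrime.ne_top inferInstance), 0, by rw [smul_zero, tmul_zero]⟩
    | tmul a n =>
      obtain ⟨r, hr, s, e⟩ := Ideal.Fiber.exists_smul_eq_one_tmul p a
      refine ⟨r, hr, s • n, ?_⟩
      rw [smul_tmul', algebraMap_smul, e, ← smul_tmul, Algebra.smul_def, mul_one]
      rfl
    | add a b ha hb =>
      obtain ⟨r, hr, n, e⟩ := ha
      obtain ⟨r', hr', n', e'⟩ := hb
      refine ⟨r * r', fun h => (Ideal.IsPrime.mem_or_mem inferInstance h).elim hr hr', algebraMap R S r' • n + algebraMap R S r • n', ?_⟩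
      rw [map_mul, smul_add, mul_comm, mul_smul, e, mul_comm, mul_smul, e', tmul_add, tmul_smul, tmul_smul]
  obtain ⟨r, hr, n, e⟩ := key x
  exact ⟨r, hr, Submodule.Quotient.mk n, e⟩

theorem jmap_eq_zero_iff (n : N ⧸ (pS • ⊤ : Submodule S N)) :
    jmap p N n = 0 ↔ ∃ r ∉ p, algebraMap R S r • n = 0 := by
  constructor
  · intro h
    let T := Algebra.algebraMapSubmonoid S p.primeCompl
    let Nb := N ⧸ (pS • ⊤ : Submodule S N)
    let Sp := Localization T
    let ψ : Sp →ₗ[S] (N →ₗ[S] LocalizedModule T Nb) := LinearMap.mk₂ S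
      (fun a n => a • LocalizedModule.mkLinearMap T Nb (Submodule.Quotient.mk n))
      (fun a b n => add_smul _ _ _) (fun c a n => smul_assoc _ _ _)
      (fun a n m => by rw [Submodule.Quotient.mk_add, map_add, smul_add])
      (fun c a n => by rw [Submodule.Quotient.mk_smul, map_smul, smul_comm])
    let J : Submodule S Sp :=
      { carrier := {a | ∀ y : LocalizedModule T Nb, a • y = 0}
        zero_mem' := fun y => zero_smul _ _
        add_mem' := fun {a b} ha hb y => by rw [add_smul, ha y, hb y, add_zero]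
        smul_mem' := fun c a ha y => by rw [smul_assoc, ha y, smul_zero] }
    have hJ : ∀ a ∈ (pS).map (algebraMap S Sp), a ∈ J := by
      intro a ha
      induction ha using Submodule.span_induction with
      | mem a ha =>
        obtain ⟨c, hc, rfl⟩ := ha
        intro y
        rw [algebraMap_smul]
        induction y using LocalizedModule.induction_on with
        | h m t => rw [LocalizedModule.smul'_mk, smul_mk_eq_zero p N hc, LocalizedModule.zero_mk]
      | zero => exact zero_mem _
      | add a b _ _ ha hb => exact add_mem ha hb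
      | smul c a _ ha => intro y; rw [smul_eq_mul, mul_smul, ha y, smul_zero]
    let ψ'' : (Sp ⧸ ((pS).map (algebraMap S Sp)).restrictScalars S) →ₗ[S] (N →ₗ[S] LocalizedModule T Nb) :=
      Submodule.liftQ (M₂ := N →ₗ[S] LocalizedModule T Nb) (((pS).map (algebraMap S Sp)).restrictScalars S) ψ
        (fun a ha => LinearMap.mem_ker.2 (LinearMap.ext fun m => hJ a ha _))
    let q : (Sp ⧸ (pS).map (algebraMap S Sp)) →ₗ[S] (Sp ⧸ ((pS).map (algebraMap S Sp)).restrictScalars S) :=
      (Submodule.Quotient.restrictScalarsEquiv S ((pS).map (algebraMap S Sp))).symm.toLinearMap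
    let ψ' : (Sp ⧸ (pS).map (algebraMap S Sp)) →ₗ[S] (N →ₗ[S] LocalizedModule T Nb) := ψ''.comp q
    let e := Ideal.Fiber.algEquivAux₁ (R := R) (S := S) p
    let Φ : (p.Fiber S) ⊗[S] N →ₗ[S] LocalizedModule T Nb := TensorProduct.lift (ψ'.comp e.toLinearMap)
    obtain ⟨n, rfl⟩ := Submodule.Quotient.mk_surjective _ n
    have h1 : Φ ((1 : p.Fiber S) ⊗ₜ[S] n) = Φ 0 := congrArg Φ h
    rw [map_zero, TensorProduct.lift.tmul, LinearMap.comp_apply,
      show e.toLinearMap (1 : p.Fiber S) = 1 from map_one e] at h1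
    have h2 : LocalizedModule.mkLinearMap T Nb (Submodule.Quotient.mk n) = 0 := by
      rw [← h1]
      exact (one_smul Sp _).symm
    obtain ⟨⟨_, r, hr, rfl⟩, hu⟩ := (IsLocalizedModule.eq_zero_iff T (LocalizedModule.mkLinearMap T Nb)).1 h2
    exact ⟨r, hr, hu⟩
  · rintro ⟨r, hr, h⟩
    obtain ⟨n, rfl⟩ := Submodule.Quotient.mk_surjective _ n
    have h1 := congrArg (jmap p N) h
    rw [map_smul, map_zero] at h1
    have hu : IsUnit (algebraMap R (p.Fiber S) r) := by
      rw [IsScalarTower.algebraMap_apply R p.ResidueField (p.Fiber S)]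
      exact (IsUnit.mk0 _ (fun h => hr (Ideal.algebraMap_residueField_eq_zero.1 h))).map _
    obtain ⟨v, hv⟩ := hu.exists_left_inv
    show ((1 : p.Fiber S) ⊗ₜ[S] n : (p.Fiber S) ⊗[S] N) = 0
    have h2 : algebraMap R S r • ((1 : p.Fiber S) ⊗ₜ[S] n : (p.Fiber S) ⊗[S] N) = 0 := h1
    rw [smul_tmul', algebraMap_smul, ← Algebra.algebraMap_eq_smul_one] at h2
    have h3 := congrArg (fun z => v • z) h2
    simp only [smul_zero, smul_tmul', smul_eq_mul, hv] at h3
    exact h3

/-- For `N` flat over `R`, elements outside `p` act injectively on `N/pN`. -/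
theorem eq_zero_of_smul [Module.Flat R N] {r : R} (hr : r ∉ p) (x : N ⧸ (pS • ⊤ : Submodule S N))
    (hx : algebraMap R S r • x = 0) : x = 0 := by
  obtain ⟨x, rfl⟩ := Submodule.Quotient.mk_surjective _ x
  rw [← Submodule.Quotient.mk_smul, Submodule.Quotient.mk_eq_zero, algebraMap_smul] at hx
  rw [Submodule.Quotient.mk_eq_zero]
  have hres : ∀ y : N, y ∈ (pS • ⊤ : Submodule S N) ↔ y ∈ (p • ⊤ : Submodule R N) := fun y => by
    rw [← Submodule.restrictScalars_mem R (pS • ⊤ : Submodule S N), Ideal.smul_restrictScalars, Submodule.restrictScalars_top]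
  rw [hres] at hx ⊢
  have hm : Function.Injective ((LinearMap.lsmul R (R ⧸ p) r).lTensor N) := by
    refine Module.Flat.lTensor_preserves_injective_linearMap _ ((injective_iff_map_eq_zero _).2 fun a ha => ?_)
    obtain ⟨a, rfl⟩ := Ideal.Quotient.mk_surjective a
    rw [LinearMap.lsmul_apply, Algebra.smul_def, Ideal.Quotient.algebraMap_eq, ← map_mul, Ideal.Quotient.eq_zero_iff_mem] at ha
    exact Ideal.Quotient.eq_zero_iff_mem.2 ((Ideal.IsPrime.mem_or_mem inferInstance ha).resolve_left hr)
  rw [← Submodule.Quotient.mk_eq_zero] at hx ⊢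
  have h1 : x ⊗ₜ[R] Ideal.Quotient.mk p 1 = 0 := by
    apply hm
    rw [map_zero, LinearMap.lTensor_tmul, LinearMap.lsmul_apply, tmul_smul, smul_tmul']
    apply (TensorProduct.tensorQuotEquivQuotSMul N p).injective
    rw [map_zero, TensorProduct.tensorQuotEquivQuotSMul_tmul_mk, one_smul, hx]
  have h2 := congrArg (TensorProduct.tensorQuotEquivQuotSMul N p) h1
  rwa [map_zero, TensorProduct.tensorQuotEquivQuotSMul_tmul_mk, one_smul] at h2

theorem eq_zero_of_smul_fib {r : R} (hr : r ∉ p) (x : FlatCA.fiberMod p S N) (hx : algebraMap R S r • x = 0) : x = 0 := by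
  have hu : IsUnit (algebraMap R (p.Fiber S) r) := by
    rw [IsScalarTower.algebraMap_apply R p.ResidueField (p.Fiber S)]
    exact (IsUnit.mk0 _ (fun h => hr (Ideal.algebraMap_residueField_eq_zero.1 h))).map _
  obtain ⟨v, hv⟩ := hu.exists_left_inv
  have key : ∀ y : (p.Fiber S) ⊗[S] N, v • (algebraMap R S r • y) = y := by
    intro y
    induction y using TensorProduct.induction_on with
    | zero => rw [smul_zero, smul_zero]
    | tmul a n => rw [smul_tmul', smul_tmul', algebraMap_smul, Algebra.smul_def, smul_eq_mul, ← mul_assoc, hv, one_mul]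
    | add a b ha hb => rw [smul_add, smul_add, ha, hb]
  have h1 : v • (algebraMap R S r • x) = v • (0 : FlatCA.fiberMod p S N) := by rw [hx]
  rw [smul_zero] at h1
  exact (key x).symm.trans h1

/-- Annihilators of a witness transfer to the fibre when they avoid the image of `R ∖ p`. -/
theorem ann_jmap {q : Ideal S} [q.IsPrime] (hq : ∀ r ∉ p, algebraMap R S r ∉ q)
    (n : N ⧸ (pS • ⊤ : Submodule S N)) (h : q = (Submodule.span S {n}).annihilator) :
    q = (Submodule.span S {jmap p N n}).annihilator := by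
  ext s
  rw [Submodule.mem_annihilator_span_singleton, ← map_smul, jmap_eq_zero_iff]
  constructor
  · intro hs
    rw [h, Submodule.mem_annihilator_span_singleton] at hs
    exact ⟨1, (Ideal.ne_top_iff_one p).1 (Ideal.IsPrime.ne_top inferInstance), by rw [hs, smul_zero]⟩
  · rintro ⟨r, hr, hrs⟩
    rw [smul_smul, ← Submodule.mem_annihilator_span_singleton, ← h] at hrs
    exact (Ideal.IsPrime.mem_or_mem inferInstance hrs).resolve_left (hq r hr)

end Groth.Agent.FlatCAFib
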